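import Mathlib
import Groth.Agent.Lib.RegLoc.Quotient

/-! A noetherian local ring which is approximated by regular local rings is regular. -/

universe u

namespace Groth.Agent.ColimRegH1

open IsLocalRing

theorem isWeaklyRegular_ofFn_iff {R : Type u} [CommRing R] {n : ℕ} (f : Fin n → R) :
    RingTheory.Sequence.IsWeaklyRegular R (List.ofFn f) ↔
      ∀ (k : Fin n) (a : R), f k * a ∈ Ideal.span (f '' Set.Iio k) → a ∈ Ideal.span (f '' Set.Iio k) := by
  have hset : ∀ (i : ℕ) (hi : i < n),
      (Ideal.ofList ((List.ofFn f).take i) • ⊤ : Submodule R R) = Ideal.span (f '' Set.Iio ⟨i, hi⟩) := by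
    intro i hi
    rw [Ideal.smul_eq_mul, Ideal.mul_top]
    show Ideal.span _ = _
    congr 1
    ext x
    constructor
    · intro hx
      obtain ⟨j, hj, rfl⟩ := List.mem_iff_getElem.1 hx
      simp only [List.length_take, List.length_ofFn, lt_min_iff] at hj
      exact ⟨⟨j, hj.2⟩, hj.1, by simp⟩
    · rintro ⟨j, hj, rfl⟩
      exact List.mem_iff_getElem.2 ⟨j.1, by
        simp only [List.length_take, List.length_ofFn, lt_min_iff]; exact ⟨hj, j.2⟩, by simp⟩
  rw [RingTheory.Sequence.isWeaklyRegular_iff]
  constructor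
  · intro h k a ha
    have := h k.1 (by simp)
    rw [hset k.1 k.2, isSMulRegular_quotient_iff_mem_of_smul_mem] at this
    exact this a (by simpa using ha)
  · intro h i hi
    have hi' : i < n := by simpa using hi
    rw [hset i hi', isSMulRegular_quotient_iff_mem_of_smul_mem]
    intro a ha
    exact h ⟨i, hi'⟩ a (by simpa using ha)

/-- A noetherian ring which is a directed union of images of regular rings, with kernels detected
along the system, is regular. -/
theorem isRegularRing_of_approx {A : Type u} [CommRing A] [IsNoetherianRing A] {ι : Type u} [Preorder ι]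
    [IsDirectedOrder ι] [Nonempty ι] (S : ι → Type u) [∀ i, CommRing (S i)]
    (g : ∀ i j, i ≤ j → S i →+* S j) (ψ : ∀ i, S i →+* A)
    (hψ : ∀ i j (h : i ≤ j) (x : S i), ψ j (g i j h x) = ψ i x)
    (hsurj : ∀ a, ∃ i b, ψ i b = a) (hker : ∀ i b, ψ i b = 0 → ∃ j h, g i j h b = 0)
    (hreg : ∀ i, IsRegularRing (S i)) : IsRegularRing A := by
  classical
  have hlift : ∀ s : Finset A, ∃ i, ∀ a ∈ s, ∃ b, ψ i b = a := by
    intro s
    induction s using Finset.induction_on with
    | empty => exact ⟨Classical.arbitrary ι, by simp⟩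
    | insert a s _ ih =>
      obtain ⟨i, hi⟩ := ih
      obtain ⟨j, b, hb⟩ := hsurj a
      obtain ⟨k, h1, h2⟩ := exists_ge_ge i j
      refine ⟨k, fun c hc => ?_⟩
      rcases Finset.mem_insert.1 hc with rfl | hc
      · exact ⟨g j k h2 b, by rw [hψ, hb]⟩
      · obtain ⟨b', hb'⟩ := hi c hc
        exact ⟨g i k h1 b', by rw [hψ, hb']⟩
  rw [isRegularRing_iff]
  intro Q _
  set B := Localization.AtPrime Q
  obtain ⟨n, hn⟩ : ∃ n, (maximalIdeal B).spanFinrank = n := ⟨_, rfl⟩
  obtain ⟨y, hy⟩ : ∃ y : Fin n → B, Ideal.span (Set.range y) = maximalIdeal B := by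
    have hfg : (maximalIdeal B).FG := IsNoetherian.noetherian _
    have hfin : (maximalIdeal B).generators.Finite := Submodule.FG.finite_generators hfg
    have hc : (maximalIdeal B).generators.ncard = (maximalIdeal B).spanFinrank :=
      Submodule.FG.generators_ncard hfg
    haveI := hfin.fintype
    rw [hn] at hc
    let e : (maximalIdeal B).generators ≃ Fin n :=
      Fintype.equivFinOfCardEq (by rw [← hc, ← Nat.card_coe_set_eq, Nat.card_eq_fintype_card])
    refine ⟨fun k => e.symm k, ?_⟩
    conv_rhs => rw [← (maximalIdeal B).span_generators]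
    congr 1
    ext z
    exact ⟨fun ⟨k, hk⟩ => hk ▸ (e.symm k).2, fun hz => ⟨e ⟨z, hz⟩, by simp⟩⟩
  choose w hxs using fun k => IsLocalization.surj Q.primeCompl (y k)
  let x : Fin n → A := fun k => (w k).1
  let s : Fin n → Q.primeCompl := fun k => (w k).2
  let z : Fin n → B := fun k => algebraMap A B (x k)
  have hz : ∀ k, z k = y k * algebraMap A B (s k) := fun k => (hxs k).symm
  have hspan : Ideal.span (Set.range z) = maximalIdeal B := by
    rw [← hy]
    refine le_antisymm (Ideal.span_le.2 ?_) (Ideal.span_le.2 ?_)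
    · rintro _ ⟨k, rfl⟩
      rw [hz, SetLike.mem_coe]
      exact Ideal.mul_mem_right _ _ (Ideal.subset_span ⟨k, rfl⟩)
    · rintro _ ⟨k, rfl⟩
      have hu : IsUnit (algebraMap A B (s k)) := IsLocalization.map_units B (s k)
      rw [SetLike.mem_coe, ← Ideal.mul_unit_mem_iff_mem _ hu, ← hz]
      exact Ideal.subset_span ⟨k, rfl⟩
  have hind : ∀ a : Fin n → B, ∑ k, a k * z k ∈ maximalIdeal B ^ 2 → ∀ k, a k ∈ maximalIdeal B := by
    intro a ha k
    by_contra hk
    have hu : IsUnit (a k) := not_not.1 hk
    have hsmall : Ideal.span (z '' {k}ᶜ) = maximalIdeal B := by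
      refine le_antisymm (hspan ▸ Ideal.span_mono (Set.image_subset_range _ _)) ?_
      refine Submodule.le_of_le_smul_of_le_jacobson_bot (IsNoetherian.noetherian _)
        (maximalIdeal_le_jacobson ⊥) ?_
      rw [Ideal.smul_eq_mul, ← sq]
      nth_rw 1 [← hspan]
      refine Ideal.span_le.2 ?_
      rintro _ ⟨l, rfl⟩
      by_cases hl : l = k
      · subst hl
        rw [SetLike.mem_coe, ← Ideal.unit_mul_mem_iff_mem _ hu]
        rw [← Finset.add_sum_erase _ _ (Finset.mem_univ l)] at ha
        have h' : a l * z l = (a l * z l + ∑ j ∈ Finset.univ.erase l, a j * z j) +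
            -(∑ j ∈ Finset.univ.erase l, a j * z j) := by ring
        rw [h']
        refine add_mem (Ideal.mem_sup_right ha) (neg_mem (Ideal.mem_sup_left ?_))
        exact Ideal.sum_mem _ fun j hj =>
          Ideal.mul_mem_left _ _ (Ideal.subset_span ⟨j, Finset.ne_of_mem_erase hj, rfl⟩)
      · exact Ideal.mem_sup_left (Ideal.subset_span ⟨l, hl, rfl⟩)
    have := Submodule.spanFinrank_span_le_ncard_of_finite (R := B) ((Set.finite_univ.subset
      (Set.subset_univ ({k}ᶜ : Set (Fin n)))).image z)
    have h2 : (z '' {k}ᶜ).ncard < n := by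
      refine (Set.ncard_image_le (Set.toFinite _)).trans_lt ?_
      rw [Set.ncard_compl, Set.ncard_singleton, Nat.card_fin]
      exact Nat.sub_lt k.pos one_pos
    rw [show Submodule.span B (z '' {k}ᶜ) = maximalIdeal B from hsmall, hn] at this
    omega
  have hweak : RingTheory.Sequence.IsWeaklyRegular B (List.ofFn z) := by
    rw [isWeaklyRegular_ofFn_iff]
    intro k b hb
    obtain ⟨a, t, hat⟩ := IsLocalization.exists_mk'_eq Q.primeCompl b
    have hzimg : Ideal.span (z '' Set.Iio k) = (Ideal.span (x '' Set.Iio k)).map (algebraMap A B) := by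
      rw [Ideal.map_span, Set.image_image]
    have hb' : algebraMap A B (x k * a) ∈ (Ideal.span (x '' Set.Iio k)).map (algebraMap A B) := by
      rw [← hzimg, map_mul, ← IsLocalization.mk'_spec B a t, ← mul_assoc]
      exact Ideal.mul_mem_right _ _ (hat ▸ hb)
    rw [IsLocalization.algebraMap_mem_map_algebraMap_iff Q.primeCompl] at hb'
    obtain ⟨v, hv, hvmem⟩ := hb'
    rw [Set.image_eq_range, Ideal.mem_span_range_iff_exists_fun] at hvmem
    obtain ⟨c, hc⟩ := hvmem
    obtain ⟨i, hi⟩ := hlift ({a, v} ∪ Finset.univ.image x ∪ Finset.univ.image c)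
    obtain ⟨a', ha'⟩ := hi a (by simp)
    obtain ⟨v', hv'⟩ := hi v (by simp)
    choose x' hx' using fun l => hi (x l) (by simp)
    choose c' hc' using fun l => hi (c l) (by simp)
    obtain ⟨j, hij, hj⟩ := hker i (v' * (x' k * a') - ∑ l, c' l * x' l) (by
      rw [map_sub, map_mul, map_mul, map_sum, hv', hx', ha', ← hc]
      simp [map_mul, hx', hc'])
    rw [map_sub, sub_eq_zero] at hj
    haveI := hreg j
    set P : Ideal (S j) := Q.comap (ψ j) with hP
    set R := Localization.AtPrime P
    let θ : R →+* B := Localization.localRingHom P Q (ψ j) rfl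
    have hθ : ∀ u : S i, θ (algebraMap (S j) R (g i j hij u)) = algebraMap A B (ψ i u) := fun u => by
      rw [Localization.localRingHom_to_map, hψ]
    let X : Fin n → R := fun l => algebraMap (S j) R (g i j hij (x' l))
    have hθX : ∀ l, θ (X l) = z l := fun l => by rw [hθ, hx']
    haveI : IsLocalHom θ := Localization.isLocalHom_localRingHom P Q (ψ j) rfl
    have hθm : ∀ r : R, θ r ∈ maximalIdeal B → r ∈ maximalIdeal R := fun r hr hu => hr (hu.map θ)
    have hθm' : (maximalIdeal R).map θ ≤ maximalIdeal B :=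
      Ideal.map_le_iff_le_comap.2 fun r hr hu => hr (isUnit_of_map_unit θ r hu)
    obtain ⟨-, hXreg⟩ := RegLoc.regular_of_independent n R X
      (fun l => hθm _ (hθX l ▸ hspan ▸ Ideal.subset_span ⟨l, rfl⟩))
      (fun d hd l => hθm _ (hind (fun l => θ (d l)) (by
        have := Ideal.mem_map_of_mem θ hd
        rw [Ideal.map_pow, map_sum] at this
        simpa [hθX] using Ideal.pow_right_mono hθm' 2 this) l))
    have hX := (isWeaklyRegular_ofFn_iff X).1 hXreg.toIsWeaklyRegular k
      (algebraMap (S j) R (g i j hij v') * algebraMap (S j) R (g i j hij a')) (by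
        have he : X k * (algebraMap (S j) R (g i j hij v') * algebraMap (S j) R (g i j hij a')) =
            algebraMap (S j) R (g i j hij (v' * (x' k * a'))) := by
          simp only [X, map_mul]; ring
        rw [he, hj, map_sum, map_sum]
        refine Ideal.sum_mem _ fun l _ => ?_
        rw [map_mul, map_mul]
        exact Ideal.mul_mem_left _ _ (Ideal.subset_span ⟨l, l.2, rfl⟩))
    have hX' := Ideal.mem_map_of_mem θ hX
    rw [Ideal.map_span, Set.image_image, Set.image_congr (fun l _ => hθX l), map_mul, hθ, hθ, hv', ha',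
      Ideal.unit_mul_mem_iff_mem _ (IsLocalization.map_units B (⟨v, hv⟩ : Q.primeCompl)),
      ← IsLocalization.mk'_spec B a t, hat,
      Ideal.mul_unit_mem_iff_mem _ (IsLocalization.map_units B t)] at hX'
    exact hX'
  have hdim : (n : WithBot ℕ∞) ≤ ringKrullDim B := by
    have hmem : ∀ r ∈ List.ofFn z, r ∈ maximalIdeal B := by
      intro r hr
      rw [List.mem_ofFn] at hr
      exact hspan ▸ Ideal.subset_span hr
    have hIR : RingTheory.Sequence.IsRegular B (List.ofFn z) := by
      refine ⟨hweak, fun h => ?_⟩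
      rw [Ideal.smul_eq_mul, Ideal.mul_top] at h
      exact (maximalIdeal.isMaximal B).ne_top (top_le_iff.1 (h ▸ Ideal.span_le.2 hmem))
    rw [← ringKrullDim_add_length_eq_ringKrullDim_of_isRegular _ hIR, List.length_ofFn]
    haveI : Nontrivial (B ⧸ Ideal.ofList (List.ofFn z)) := Ideal.Quotient.nontrivial_iff.2 fun h =>
      (maximalIdeal.isMaximal B).ne_top (top_le_iff.1 (h ▸ Ideal.span_le.2 hmem))
    exact le_add_of_nonneg_left ringKrullDim_nonneg_of_nontrivial
  exact IsRegularLocalRing.of_spanFinrank_maximalIdeal_le _ (hn ▸ hdim)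

end Groth.Agent.ColimRegH1
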